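import Groth.Prelude.Def_W4c3perfectstacksMV
import Mathlib.CategoryTheory.Triangulated.Pretriangulated
import Mathlib.CategoryTheory.Triangulated.Functor
import Mathlib.Tactic

/-!
Mayer–Vietoris squares: orthogonality lemmas.
-/

set_option autoImplicit false
universe v u

open CategoryTheory CategoryTheory.Limits CategoryTheory.Pretriangulated W4c3perfectstacks

namespace Groth.Agent.MVTri

variable {C D : Type u} [Category.{v} C] [Category.{v} D]

theorem eq_zero_of_isZero_left [HasZeroMorphisms C] [HasZeroMorphisms D] {L : C ⥤ D} {R : D ⥤ C}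
    (adj : L ⊣ R) {X : C} (hX : IsZero (L.obj X)) {Y : D} (h : X ⟶ R.obj Y) : h = 0 :=
  (adj.homEquiv X Y).symm.injective (hX.eq_of_src _ _)

variable {S S' R R' : Type u} [Category.{v} S] [Category.{v} S'] [Category.{v} R] [Category.{v} R']
  (q : MVSq S S' R R')

/-- `f^* j_* Q ≅ j'_* g^* Q`, so it receives nothing from objects killed by `j'^*`. -/
theorem eq_zero_to_fst_jls [HasZeroMorphisms S'] [HasZeroMorphisms R'] (hq : q.IsMV) {X : S'} (hX : IsZero (q.jpst.obj X))
    {Q : R} (h : X ⟶ q.fst.obj (q.jls.obj Q)) : h = 0 := by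
  have := hq.isIso_bc2App Q
  exact (cancel_mono (q.bc2App Q)).1 ((eq_zero_of_isZero_left q.adjJp hX _).trans zero_comp.symm)

/-- A map killed by `j^*` composes to zero with any map into `f_* f^* j_*`. -/
theorem comp_eq_zero_of_jst_map_eq_zero [HasZeroMorphisms S] [HasZeroMorphisms S'] [HasZeroMorphisms R] [HasZeroMorphisms R']
    [q.gst.PreservesZeroMorphisms] [q.fst.PreservesZeroMorphisms] [q.jpst.PreservesZeroMorphisms]
    (hq : q.IsMV) {X Y : S} (k : X ⟶ Y) (hk : q.jst.map k = 0) {Q : R}
    (h : Y ⟶ q.fls.obj (q.fst.obj (q.jls.obj Q))) : k ≫ h = 0 := by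
  have := hq.isIso_bc2App Q
  have h1 : q.jpst.map (q.fst.map k) = 0 := by
    rw [← cancel_mono (q.e.inv.app Y)]
    refine (q.e.inv.naturality k).trans ?_
    simp [hk]
  apply (q.adjF.homEquiv _ _).symm.injective
  rw [q.adjF.homEquiv_naturality_left_symm]
  refine (cancel_mono (q.bc2App Q)).1 ?_
  apply (q.adjJp.homEquiv _ _).symm.injective
  rw [Category.assoc, q.adjJp.homEquiv_naturality_left_symm, h1]
  simp [Adjunction.homEquiv_counit]

end Groth.Agent.MVTri
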